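import Groth.Agent.ProjCoord.Extra
import Groth.Prelude.Def_CohB1

/-!
# Projective space over a ring is the base change of projective space over the integers
-/

set_option autoImplicit false
set_option backward.isDefEq.respectTransparency false
set_option backward.isDefEq.respectTransparency.types false
set_option linter.style.haveILetI false

noncomputable section

universe u

open CategoryTheory CategoryTheory.Limits AlgebraicGeometry HomogeneousLocalization MvPolynomial CohB1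
open Groth.Agent.ProjCoord

namespace Groth.Agent.ProjBC

/-- The integers in the universe at hand. -/
abbrev ZZ : Type u := ULift.{u} ℤ

theorem zHom_ext {W : Type u} [CommRing W] (a b : ZZ.{u} →+* W) : a = b := by
  ext ⟨x⟩
  exact RingHom.congr_fun (Subsingleton.elim (a.comp (ULift.ringEquiv (R := ℤ)).symm.toRingHom)
    (b.comp (ULift.ringEquiv (R := ℤ)).symm.toRingHom)) x

def zMap (W : Type u) [CommRing W] : ZZ.{u} →+* W := (Int.castRingHom W).comp (ULift.ringEquiv (R := ℤ)).toRingHom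

theorem pt_congr {R : Type u} [CommRing R] {n : ℕ} {T : Scheme.{u}} {ρ ρ' : R →+* Γ(T, ⊤)}
    {v v' : Fin (n + 1) → Γ(T, ⊤)} (i : Fin (n + 1)) (hi : IsUnit (v i)) (hρ : ρ = ρ') (hv : v = v') :
    pt ρ v i hi = pt ρ' v' i (hv ▸ hi) := by
  subst hρ hv; rfl

/-- The point of `Spec A` read on global functions. -/
theorem appTop_toSpecΓ {T : Scheme.{u}} {A : CommRingCat.{u}} (φ : A ⟶ Γ(T, ⊤)) (x : A) :
    (T.toSpecΓ ≫ Spec.map φ).appTop ((Scheme.ΓSpecIso A).inv x) = φ x := by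
  have h : (Scheme.ΓSpecIso A).inv ≫ (T.toSpecΓ ≫ Spec.map φ).appTop = φ := by simp
  exact ConcreteCategory.congr_hom h x

variable (n : ℕ) (R : Type u) [CommRing R]

/-- Two points of projective space which agree have the same coefficient map and proportional coordinates. -/
theorem eq_and_cross {n : ℕ} {R : Type u} [CommRing R] {T : Scheme.{u}} {ρ ρ' : R →+* Γ(T, ⊤)}
    {v v' : Fin (n + 1) → Γ(T, ⊤)} {i j : Fin (n + 1)} (hi : IsUnit (v i)) (hj : IsUnit (v' j))
    (h : pt ρ v i hi = pt ρ' v' j hj) : ρ = ρ' ∧ ∀ k l, v k * v' l = v l * v' k := by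
  have e : ρ = ρ' := by
    have := congrArg (· ≫ baseMap n R) h
    simp only [pt_toSpec] at this
    exact ρ_eq _ _ this
  subst e
  exact ⟨rfl, cross_of_pt_eq ρ v v' i j hi hj h⟩

/-- The coordinates of a point lying in two standard charts are proportional. -/
theorem cross_chart {n : ℕ} {R : Type u} [CommRing R] {T : Scheme.{u}} (i j : Fin (n + 1))
    (a : T ⟶ Spec (CommRingCat.of (Away (polyGrading n R) (X i))))
    (b : T ⟶ Spec (CommRingCat.of (Away (polyGrading n R) (X j))))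
    (h : a ≫ Proj.awayι (polyGrading n R) (X i) (X_mem i) one_pos =
      b ≫ Proj.awayι (polyGrading n R) (X j) (X_mem j) one_pos) (k l : Fin (n + 1)) :
    a.appTop.hom ((Scheme.ΓSpecIso _).inv.hom (ratio i k)) * b.appTop.hom ((Scheme.ΓSpecIso _).inv.hom (ratio j l)) =
      a.appTop.hom ((Scheme.ΓSpecIso _).inv.hom (ratio i l)) * b.appTop.hom ((Scheme.ΓSpecIso _).inv.hom (ratio j k)) := by
  rw [awayι_eq_pt i, awayι_eq_pt j, pt_comp, pt_comp] at h
  exact (eq_and_cross _ _ h).2 k l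

/-- Forgetting the coefficients. -/
theorem exists_forget : ∃ g : Proj (polyGrading n R) ⟶ Proj (polyGrading n ZZ.{u}),
    ∀ (T : Scheme.{u}) (ρ : R →+* Γ(T, ⊤)) (ρ' : ZZ.{u} →+* Γ(T, ⊤)) (v : Fin (n + 1) → Γ(T, ⊤)) (i : Fin (n + 1))
      (hi : IsUnit (v i)), pt ρ v i hi ≫ g = pt ρ' v i hi := by
  let A : ULift.{u} (Fin (n + 1)) → CommRingCat.{u} := fun i => .of (Away (polyGrading n R) (X i.down))
  let c : ∀ i, Fin (n + 1) → Γ(Spec (A i), ⊤) := fun i k =>
    (Scheme.ΓSpecIso (A i)).inv.hom (ratio i.down k)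
  have hc : ∀ i, IsUnit (c i i.down) := fun i => by simp only [c, ratio_self]; simp
  let f : ∀ i, Spec (A i) ⟶ Proj (polyGrading n ZZ.{u}) := fun i => pt (zMap _) (c i) i.down (hc i)
  have hcompat : ∀ i j, pullback.fst ((cover n R).openCover.f i) ((cover n R).openCover.f j) ≫ f i =
      pullback.snd ((cover n R).openCover.f i) ((cover n R).openCover.f j) ≫ f j := fun i j => by
    have hcross := cross_chart i.down j.down (pullback.fst ((cover n R).openCover.f i) ((cover n R).openCover.f j))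
      (pullback.snd ((cover n R).openCover.f i) ((cover n R).openCover.f j)) pullback.condition
    simp only [f]
    erw [pt_comp, pt_comp]
    refine (pt_congr _ _ (zHom_ext _ _) rfl).trans (pt_eq _ _ _ _ _ _ _ hcross)
  refine ⟨(cover n R).openCover.glueMorphisms f hcompat, fun T ρ ρ' v i hi => ?_⟩
  let φ : A ⟨i⟩ ⟶ Γ(T, ⊤) := CommRingCat.ofHom (awayEval (𝒜 := polyGrading n R) (x := X i) (eval₂Hom ρ v)
    (by rwa [eval₂Hom_X']))
  have e : pt ρ v i hi = (T.toSpecΓ ≫ Spec.map φ) ≫ (cover n R).openCover.f ⟨i⟩ := (Category.assoc _ _ _).symm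
  rw [e, Category.assoc, (cover n R).openCover.ι_glueMorphisms]
  simp only [f]
  rw [pt_comp]
  refine (pt_congr _ _ (zHom_ext _ ρ') rfl).trans (pt_eq _ _ _ _ _ _ _ fun k l => ?_)
  simp only [c, φ, appTop_toSpecΓ]
  have hk := awayEval_ratio ρ v i k (by rwa [eval₂Hom_X'])
  have hl := awayEval_ratio ρ v i l (by rwa [eval₂Hom_X'])
  simp only [CommRingCat.hom_ofHom] at *
  rw [← hk, ← hl]
  ring

/-- `P^n_R ≅ P^n_ℤ ×_ℤ Spec R` over `Spec R`. -/
theorem exists_iso : ∃ m : ProjSpace n R ⟶ ProjSpaceOver n (Spec (CommRingCat.of R)),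
    IsIso m ∧ m ≫ pullback.snd (ProjSpace.toSpec n ZZ.{u}) (specULiftZIsTerminal.from _) = ProjSpace.toSpec n R := by
  obtain ⟨g, hg⟩ := exists_forget n R
  let t := specULiftZIsTerminal.from (Spec (CommRingCat.of R))
  let m : ProjSpace n R ⟶ ProjSpaceOver n (Spec (CommRingCat.of R)) :=
    pullback.lift g (ProjSpace.toSpec n R) (specULiftZIsTerminal.hom_ext _ _)
  let p : pullback (ProjSpace.toSpec n ZZ.{u}) t ⟶ Proj (polyGrading n ZZ.{u}) := pullback.fst (ProjSpace.toSpec n ZZ.{u}) t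
  let q : pullback (ProjSpace.toSpec n ZZ.{u}) t ⟶ Spec (CommRingCat.of R) := pullback.snd (ProjSpace.toSpec n ZZ.{u}) t
  let 𝒰 : (pullback (ProjSpace.toSpec n ZZ.{u}) t).OpenCover := (cover n ZZ.{u}).openCover.pullback₁ p
  let A : ULift.{u} (Fin (n + 1)) → CommRingCat.{u} := fun i => .of (Away (polyGrading n ZZ.{u}) (X i.down))
  let a : ∀ i, 𝒰.X i ⟶ Spec (A i) := fun i => pullback.snd p ((cover n ZZ.{u}).openCover.f i)
  let ρ : ∀ i, R →+* Γ(𝒰.X i, ⊤) := fun i =>
    (𝒰.f i ≫ q).appTop.hom.comp (Scheme.ΓSpecIso (CommRingCat.of R)).inv.hom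
  let v : ∀ i, Fin (n + 1) → Γ(𝒰.X i, ⊤) := fun i k =>
    (a i).appTop.hom ((Scheme.ΓSpecIso (A i)).inv.hom (ratio i.down k))
  have hv : ∀ i, IsUnit (v i i.down) := fun i => by simp only [v, ratio_self]; simp
  have hfp : ∀ i, 𝒰.f i ≫ p = pt (zMap _) (v i) i.down (hv i) := fun i => by
    have e : 𝒰.f i ≫ p = a i ≫ (cover n ZZ.{u}).openCover.f i := pullback.condition
    rw [e]
    show a i ≫ Proj.awayι (polyGrading n ZZ.{u}) (X i.down) (X_mem i.down) one_pos = _
    rw [awayι_eq_pt, pt_comp]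
    exact pt_congr _ _ (zHom_ext _ _) rfl
  have hρ : ∀ {T : Scheme.{u}} (h : T ⟶ Spec (CommRingCat.of R)),
      T.toSpecΓ ≫ Spec.map (CommRingCat.ofHom (h.appTop.hom.comp (Scheme.ΓSpecIso (CommRingCat.of R)).inv.hom)) = h :=
    fun {T} h => by
      rw [CommRingCat.ofHom_comp, CommRingCat.ofHom_hom, CommRingCat.ofHom_hom, Spec.map_comp,
        ← Scheme.toSpecΓ_naturality_assoc]
      simp
  let f : ∀ i, 𝒰.X i ⟶ ProjSpace n R := fun i => pt (ρ i) (v i) i.down (hv i)
  have hcompat : ∀ i j, pullback.fst (𝒰.f i) (𝒰.f j) ≫ f i = pullback.snd (𝒰.f i) (𝒰.f j) ≫ f j := fun i j => by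
    have h : pullback.fst (𝒰.f i) (𝒰.f j) ≫ 𝒰.f i ≫ p = pullback.snd (𝒰.f i) (𝒰.f j) ≫ 𝒰.f j ≫ p := by
      rw [pullback.condition_assoc]
    rw [hfp, hfp, pt_comp, pt_comp] at h
    obtain ⟨-, hcross⟩ := eq_and_cross _ _ h
    simp only [f]
    erw [pt_comp, pt_comp]
    refine (pt_congr _ _ (ρ_eq _ ((pullback.snd (𝒰.f i) (𝒰.f j)).appTop.hom.comp (ρ j)) ?_) rfl).trans
      (pt_eq _ _ _ _ _ _ _ hcross)
    simp only [ρ, ← RingHom.comp_assoc, ← CommRingCat.hom_comp, ← Scheme.Hom.comp_appTop]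
    rw [hρ, hρ, pullback.condition_assoc]
  let ψ : ProjSpaceOver n (Spec (CommRingCat.of R)) ⟶ ProjSpace n R := 𝒰.glueMorphisms f hcompat
  have hψ : ∀ i, 𝒰.f i ≫ ψ = f i := fun i => 𝒰.ι_glueMorphisms f hcompat i
  refine ⟨m, ⟨ψ, ?_, ?_⟩, pullback.lift_snd _ _ _⟩
  · apply (cover n R).openCover.hom_ext
    rintro ⟨i⟩
    let B : CommRingCat.{u} := .of (Away (polyGrading n R) (X i))
    let c : Fin (n + 1) → Γ(Spec B, ⊤) := fun k => (Scheme.ΓSpecIso B).inv.hom (ratio i k)
    have hc : IsUnit (c i) := by simp only [c, ratio_self]; simp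
    let φ : A ⟨i⟩ ⟶ Γ(Spec B, ⊤) := CommRingCat.ofHom (awayEval (𝒜 := polyGrading n ZZ.{u}) (x := X i)
      (eval₂Hom (zMap _) c) (by rwa [eval₂Hom_X']))
    have h : ((cover n R).openCover.f ⟨i⟩ ≫ m) ≫ p =
        ((Spec B).toSpecΓ ≫ Spec.map φ) ≫ (cover n ZZ.{u}).openCover.f ⟨i⟩ := by
      rw [Category.assoc, show m ≫ p = g from pullback.lift_fst _ _ _]
      show Proj.awayι (polyGrading n R) (X i) (X_mem i) one_pos ≫ g = _
      rw [awayι_eq_pt, hg _ _ (zMap _)]
      exact (Category.assoc _ _ _).symm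
    let l : Spec B ⟶ 𝒰.X ⟨i⟩ := pullback.lift _ _ h
    have hl : l ≫ 𝒰.f ⟨i⟩ = (cover n R).openCover.f ⟨i⟩ ≫ m := pullback.lift_fst _ _ _
    have hla : l ≫ a ⟨i⟩ = (Spec B).toSpecΓ ≫ Spec.map φ := pullback.lift_snd _ _ _
    refine Eq.trans ?_ (Category.comp_id _).symm
    rw [← Category.assoc, ← hl, Category.assoc, hψ]
    simp only [f]
    rw [pt_comp]
    refine Eq.trans ?_ (awayι_eq_pt i).symm
    refine (pt_congr _ _ (ρ_eq _ ((Scheme.ΓSpecIso B).inv.hom.comp (const i)) ?_) rfl).trans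
      (pt_eq _ _ _ _ _ _ _ fun k l' => ?_)
    · simp only [ρ, ← RingHom.comp_assoc, ← CommRingCat.hom_comp, ← Scheme.Hom.comp_appTop]
      rw [hρ, ← Category.assoc, hl, Category.assoc, show m ≫ q = _ from pullback.lift_snd _ _ _,
        CommRingCat.ofHom_comp, CommRingCat.ofHom_hom]
      show Proj.awayι (polyGrading n R) (X i) (X_mem i) one_pos ≫ ProjSpace.toSpec n R = _
      rw [awayι_eq_pt]
      exact pt_toSpec _ _ _ _
    · have key : ∀ z, l.appTop.hom ((a ⟨i⟩).appTop.hom ((Scheme.ΓSpecIso (A ⟨i⟩)).inv.hom z)) = φ z := fun z => by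
        show (l ≫ a ⟨i⟩).appTop ((Scheme.ΓSpecIso (A ⟨i⟩)).inv z) = _
        rw [hla]
        exact appTop_toSpecΓ φ z
      simp only [v]
      erw [key, key]
      have hk := awayEval_ratio (zMap _) c i k (by rwa [eval₂Hom_X'])
      have hl' := awayEval_ratio (zMap _) c i l' (by rwa [eval₂Hom_X'])
      have hci : c i = 1 := by simp only [c, ratio_self, map_one]
      replace hk := (mul_one _).symm.trans ((congrArg (_ * ·) hci.symm).trans hk)
      replace hl' := (mul_one _).symm.trans ((congrArg (_ * ·) hci.symm).trans hl')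
      simp only [φ, CommRingCat.hom_ofHom]
      rw [hk, hl']
      exact mul_comm _ _
  · apply 𝒰.hom_ext
    intro i
    refine Eq.trans ?_ (Category.comp_id _).symm
    rw [← Category.assoc, hψ]
    apply pullback.hom_ext
    · show (f i ≫ m) ≫ p = 𝒰.f i ≫ p
      rw [Category.assoc, show m ≫ p = g from pullback.lift_fst _ _ _, hfp]
      exact hg _ _ _ _ _ _
    · show (f i ≫ m) ≫ q = 𝒰.f i ≫ q
      rw [Category.assoc, show m ≫ q = _ from pullback.lift_snd _ _ _]
      exact (pt_toSpec _ _ _ _).trans (hρ _)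

end Groth.Agent.ProjBC
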